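import Cfsg.Agent.Lib.H29.O8M.Cert.Data

set_option autoImplicit false
set_option maxRecDepth 100000

/-! # Word lists of the monomial certificate (generated) -/

namespace Cfsg.Agent.Lib.H29.O8M.Cert

open Cfsg.Agent.Lib.H17.CosetCert (BT WT)
open Cfsg.Agent.Lib.H17.MonoCert

/-- the exact relators -/
def exactL : List (List ℕ) := [[0, 0, 0, 0, 0, 0, 0], [2, 2, 2, 2, 2, 2, 2], [2, 0, 3, 1, 3, 3, 0, 2, 2, 0, 2, 1, 3, 1, 1], [0, 3, 0, 3, 3, 0, 2, 1, 2, 2, 1, 2, 1, 3, 3], [1, 3, 1, 2, 1, 2, 0, 3, 1, 2], [1, 3, 3, 3, 1, 3, 0, 2, 1, 2, 0, 2, 2, 2], [0, 0, 0, 2, 2, 1, 1, 3, 3, 0, 0, 2], [0, 0, 2, 0, 0, 2, 0, 0, 2, 0, 0, 2], [0, 0, 2, 2, 0, 0, 2, 2,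 0, 0, 2, 2], [0, 0, 3, 0, 2, 1, 3, 3, 1, 2, 1, 2], [0, 2, 0, 2, 0, 2, 0, 2, 0, 2, 0, 2], [0, 2, 1, 2, 0, 2, 1, 2, 0, 2, 1, 2], [0, 0, 0, 0, 3, 1, 1, 2, 2, 0, 0, 3, 3], [0, 0, 2, 1, 3, 3, 0, 0, 3, 1, 3, 0, 2], [0, 0, 3, 0, 3, 3, 1, 3, 3, 1, 2, 0, 3], [0, 0, 3, 3, 3, 0, 3, 1, 2, 0, 3, 0, 3], [0, 0, 0, 2, 1, 1, 2, 2, 2, 1, 2, 2, 1, 3], [0, 0, 0, 2, 1, 2, 2, 0, 0, 0, 2, 1, 2, 2], [0, 0, 0, 3, 0, 3, 0, 0, 2, 2, 1, 2, 1, 2], [0, 0, 0, 3, 3, 1, 1, 2, 2, 2, 1, 1, 1, 3], [0, 0, 0, 3, 3, 3, 1, 2, 0, 2, 2, 0, 3, 3], [0, 0, 0, 3, 3, 3, 1, 3, 1, 1, 2, 2, 1, 2], [0, 0, 2, 0, 0, 2, 2, 2, 0, 0, 3, 3, 1, 2], [0, 0, 2, 0, 2, 2, 0, 3, 0, 0, 2, 2, 1, 3], [0, 0,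 2, 0, 3, 0, 2, 2, 1, 2, 0, 2, 1, 2], [0, 0, 2, 0, 3, 1, 3, 0, 0, 3, 1, 2, 2, 2], [0, 0, 2, 1, 3, 0, 3, 0, 0, 3, 0, 2, 0, 3], [0, 0, 2, 2, 0, 2, 2, 0, 3, 3, 3, 0, 3, 3], [0, 0, 2, 2, 2, 0, 3, 0, 2, 0, 0, 3, 0, 3], [0, 0, 2, 2, 2, 2, 0, 3, 1, 2, 0, 3, 0, 3], [0, 0, 3, 0, 2, 1, 3, 1, 3, 0, 3, 0, 2, 2], [0, 0, 3, 1, 3, 3, 3, 0, 3, 1, 3, 3, 0, 2], [0, 0, 3, 3, 0, 2, 2, 2, 1, 2, 2, 2, 0, 3], [0, 0, 3, 3, 3, 0, 2, 0, 2, 2, 1, 2, 1, 3], [0, 2, 1, 2, 2, 0, 2, 2, 2, 0, 3, 3, 1, 2], [0, 3, 0, 3, 0, 3, 0, 3, 0, 3, 0, 3, 0, 3], [0, 0, 0, 0, 0, 0, 2, 0, 3, 1, 2, 1, 3, 1, 2], [0, 0, 0, 0, 0, 0, 2, 1, 2, 0, 3, 1, 2, 1, 3], [0, 0, 0, 0, 0, 0, 2, 1, 3, 1, 2, 1,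 2, 0, 3], [0, 0, 0, 0, 0, 0, 3, 0, 3, 0, 2, 0, 3, 0, 2], [0, 0, 0, 0, 0, 0, 3, 1, 2, 1, 2, 0, 3, 1, 2], [0, 0, 0, 0, 0, 2, 2, 0, 0, 3, 3, 1, 1, 1, 3], [0, 0, 0, 0, 0, 3, 1, 1, 3, 1, 1, 3, 1, 1, 3], [0, 0, 0, 0, 0, 3, 3, 0, 0, 2, 0, 0, 0, 2, 2], [0, 0, 0, 0, 0, 3, 3, 1, 1, 3, 3, 1, 1, 3, 3], [0, 0, 0, 0, 2, 0, 0, 0, 3, 3, 3, 0, 0, 2, 2], [0, 0, 0, 0, 2, 0, 3, 3, 0, 3, 3, 3, 0, 0, 3], [0, 0, 0, 0, 2, 2, 1, 3, 3, 1, 3, 0, 2, 2, 2], [0, 0, 0, 0, 3, 0, 0, 0, 3, 3, 1, 1, 2, 2, 2], [0, 0, 0, 0, 3, 0, 3, 0, 3, 3, 1, 1, 2, 1, 2], [0, 0, 0, 0, 3, 0, 3, 3, 0, 0, 2, 0, 2, 2, 2], [0, 0, 0, 0, 3, 3, 0, 3, 1, 1, 1, 3, 3, 0, 3], [0, 0, 0, 2, 0, 0, 0, 3, 1, 2,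 2, 2, 1, 3, 3], [0, 0, 0, 2, 0, 0, 2, 0, 2, 0, 2, 1, 1, 2, 2], [0, 0, 0, 2, 0, 0, 3, 1, 2, 0, 0, 0, 2, 0, 3], [0, 0, 0, 2, 0, 2, 0, 2, 1, 3, 1, 1, 1, 3, 3], [0, 0, 0, 2, 0, 2, 1, 1, 1, 2, 0, 0, 3, 1, 3], [0, 0, 0, 2, 0, 3, 1, 1, 2, 2, 2, 1, 3, 1, 3], [0, 0, 0, 2, 1, 1, 2, 1, 2, 2, 0, 3, 3, 0, 2], [0, 0, 0, 2, 1, 1, 3, 1, 2, 2, 2, 0, 3, 0, 3], [0, 0, 0, 2, 1, 1, 3, 3, 3, 3, 1, 2, 2, 1, 3], [0, 0, 0, 2, 2, 0, 2, 0, 0, 2, 0, 2, 0, 2, 2], [0, 0, 0, 2, 2, 0, 2, 0, 3, 1, 3, 1, 3, 1, 2], [0, 0, 0, 2, 2, 0, 3, 0, 3, 0, 3, 1, 3, 3, 3], [0, 0, 0, 2, 2, 1, 1, 2, 2, 2, 2, 2, 0, 0, 2], [0, 0, 0, 2, 2, 1, 3, 1, 1, 3, 1, 2, 0, 2, 2], [0, 0, 0, 2, 2, 2, 2, 1,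 2, 0, 2, 2, 0, 3, 3], [0, 0, 0, 2, 2, 2, 2, 1, 3, 1, 1, 2, 2, 1, 2], [0, 0, 0, 3, 0, 3, 0, 3, 3, 1, 2, 0, 3, 0, 2], [0, 0, 0, 3, 0, 3, 3, 1, 3, 3, 3, 0, 2, 0, 3], [0, 0, 0, 3, 1, 3, 0, 2, 0, 2, 1, 1, 3, 0, 3], [0, 0, 0, 3, 3, 0, 0, 2, 0, 3, 3, 1, 1, 3, 3], [0, 0, 0, 3, 3, 1, 3, 1, 2, 0, 3, 0, 3, 1, 3], [0, 0, 2, 0, 0, 3, 1, 2, 0, 0, 2, 1, 2, 0, 3], [0, 0, 2, 0, 0, 3, 3, 3, 3, 0, 0, 3, 3, 1, 2], [0, 0, 2, 0, 2, 0, 3, 3, 0, 2, 1, 2, 1, 2, 2], [0, 0, 2, 0, 3, 0, 3, 3, 3, 1, 3, 3, 3, 1, 3], [0, 0, 2, 0, 3, 1, 3, 0, 0, 3, 1, 3, 3, 3, 3], [0, 0, 2, 1, 1, 2, 1, 3, 3, 1, 1, 2, 1, 1, 2], [0, 0, 2, 1, 1, 2, 2, 0, 3, 1, 3, 0, 2, 1, 3], [0, 0, 2, 1, 1, 3,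 0, 2, 1, 2, 2, 0, 2, 0, 3], [0, 0, 2, 1, 1, 3, 3, 0, 2, 2, 1, 3, 3, 0, 3], [0, 0, 2, 1, 2, 0, 2, 0, 0, 3, 3, 1, 3, 1, 2], [0, 0, 2, 1, 2, 0, 2, 0, 2, 1, 3, 0, 0, 3, 3], [0, 0, 2, 1, 2, 0, 2, 2, 1, 3, 1, 2, 0, 3, 3], [0, 0, 2, 1, 2, 1, 1, 2, 0, 0, 2, 2, 2, 1, 3], [0, 0, 2, 1, 2, 1, 2, 2, 1, 3, 0, 0, 3, 0, 2], [0, 0, 2, 1, 2, 2, 2, 1, 1, 2, 2, 1, 3, 0, 3], [0, 0, 2, 1, 3, 0, 0, 3, 3, 0, 3, 0, 3, 1, 3], [0, 0, 2, 1, 3, 3, 0, 2, 0, 2, 1, 2, 0, 2, 2], [0, 0, 2, 1, 3, 3, 0, 2, 2, 0, 2, 2, 2, 0, 3], [0, 0, 2, 1, 3, 3, 3, 1, 2, 0, 2, 2, 1, 3, 3], [0, 0, 2, 2, 0, 2, 2, 0, 2, 2, 2, 2, 0, 3, 3], [0, 0, 2, 2, 0, 2, 2, 1, 2, 1, 2, 1, 3, 0, 3], [0, 0, 2, 2,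 0, 3, 0, 3, 1, 3, 1, 2, 2, 0, 2], [0, 0, 2, 2, 1, 1, 2, 2, 0, 2, 1, 1, 2, 0, 2], [0, 0, 2, 2, 2, 1, 3, 1, 3, 3, 0, 2, 1, 1, 3], [0, 0, 2, 2, 2, 2, 0, 2, 0, 2, 2, 1, 2, 1, 3], [0, 0, 3, 0, 0, 3, 0, 3, 3, 3, 1, 2, 1, 1, 3], [0, 0, 3, 0, 0, 3, 3, 3, 0, 3, 3, 0, 2, 0, 3], [0, 0, 3, 0, 2, 1, 2, 2, 2, 2, 2, 1, 2, 1, 2], [0, 0, 3, 0, 3, 0, 3, 3, 1, 2, 2, 0, 3, 1, 2], [0, 0, 3, 1, 2, 1, 3, 0, 3, 3, 3, 0, 3, 1, 2], [0, 0, 3, 1, 2, 2, 2, 2, 0, 3, 1, 3, 3, 0, 2], [0, 0, 3, 1, 3, 0, 2, 0, 2, 1, 3, 1, 2, 1, 3], [0, 0, 3, 3, 0, 2, 2, 2, 1, 3, 3, 3, 3, 0, 3], [0, 0, 3, 3, 0, 3, 3, 3, 3, 1, 2, 2, 2, 0, 3], [0, 0, 3, 3, 3, 0, 3, 0, 3, 3, 3, 0, 2, 0, 2], [0, 0,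 3, 3, 3, 1, 2, 2, 2, 1, 3, 3, 0, 2, 2], [0, 2, 0, 2, 1, 3, 3, 3, 1, 3, 1, 2, 2, 1, 3], [0, 2, 0, 2, 2, 2, 2, 2, 2, 0, 2, 1, 3, 0, 3], [0, 2, 0, 3, 0, 2, 1, 3, 0, 2, 2, 2, 2, 2, 2], [0, 2, 0, 3, 0, 3, 3, 3, 3, 3, 3, 1, 3, 0, 3], [0, 2, 0, 3, 1, 2, 0, 2, 1, 2, 1, 2, 2, 1, 3], [0, 2, 0, 3, 1, 3, 3, 1, 2, 2, 2, 1, 3, 1, 2], [0, 2, 1, 2, 0, 2, 2, 2, 1, 2, 2, 2, 2, 1, 3], [0, 2, 1, 2, 0, 3, 3, 3, 3, 1, 3, 3, 3, 1, 3], [0, 2, 1, 2, 2, 0, 3, 3, 3, 3, 0, 3, 3, 1, 2], [0, 2, 2, 0, 2, 2, 1, 3, 0, 2, 2, 2, 1, 2, 2], [0, 2, 2, 0, 3, 3, 0, 3, 3, 1, 2, 2, 0, 3, 3], [0, 2, 2, 1, 3, 0, 2, 2, 1, 3, 0, 2, 2, 1, 3], [0, 0, 0, 0, 0, 2, 1, 2, 1, 3, 0, 2, 1, 2, 2,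 2], [0, 0, 0, 0, 0, 2, 1, 3, 0, 2, 2, 0, 2, 2, 1, 2], [0, 0, 0, 0, 0, 2, 2, 0, 3, 1, 1, 3, 1, 2, 0, 2], [0, 0, 0, 0, 0, 3, 1, 2, 0, 2, 1, 1, 2, 2, 0, 3], [0, 0, 0, 0, 2, 0, 0, 3, 1, 3, 0, 0, 0, 2, 0, 2], [0, 0, 0, 0, 2, 0, 2, 0, 3, 3, 3, 0, 0, 2, 1, 3], [0, 0, 0, 0, 2, 0, 2, 1, 1, 3, 0, 0, 0, 3, 1, 3], [0, 0, 0, 0, 2, 0, 2, 1, 2, 1, 3, 0, 2, 0, 2, 2], [0, 0, 0, 0, 2, 0, 3, 3, 0, 2, 2, 2, 2, 0, 0, 3], [0, 0, 0, 0, 2, 1, 2, 0, 0, 3, 1, 3, 1, 2, 0, 2], [0, 0, 0, 0, 2, 1, 2, 1, 3, 3, 3, 0, 2, 0, 0, 3], [0, 0, 0, 0, 2, 1, 3, 1, 1, 1, 3, 0, 2, 1, 1, 3], [0, 0, 0, 0, 2, 2, 0, 0, 0, 2, 0, 3, 1, 3, 1, 3], [0, 0, 0, 0, 2, 2, 0, 3, 3, 3, 0, 2, 1, 1, 1,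 3], [0, 0, 0, 0, 2, 2, 2, 0, 2, 1, 2, 1, 2, 1, 3, 3], [0, 0, 0, 0, 3, 0, 2, 0, 2, 0, 2, 1, 3, 1, 3, 3], [0, 0, 0, 0, 3, 0, 2, 1, 1, 3, 1, 1, 1, 2, 1, 3], [0, 0, 0, 0, 3, 1, 1, 1, 2, 2, 0, 3, 3, 3, 0, 2], [0, 0, 0, 0, 3, 1, 1, 3, 3, 3, 3, 3, 0, 0, 3, 3], [0, 0, 0, 0, 3, 1, 2, 2, 1, 3, 3, 0, 3, 0, 0, 3], [0, 0, 0, 0, 3, 3, 0, 0, 0, 2, 0, 2, 0, 2, 1, 3], [0, 0, 0, 0, 3, 3, 0, 0, 3, 1, 3, 1, 3, 1, 1, 3], [0, 0, 0, 0, 3, 3, 0, 3, 0, 0, 0, 0, 3, 3, 0, 3], [0, 0, 0, 0, 3, 3, 1, 3, 0, 2, 0, 0, 2, 0, 3, 3], [0, 0, 0, 0, 3, 3, 1, 3, 1, 3, 1, 1, 3, 1, 3, 3], [0, 0, 0, 2, 0, 0, 0, 2, 0, 2, 1, 3, 1, 3, 0, 3], [0, 0, 0, 2, 0, 0, 0, 3, 1, 3, 3, 3, 3, 1, 3,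 3], [0, 0, 0, 2, 0, 0, 3, 3, 0, 3, 1, 1, 3, 3, 0, 2], [0, 0, 0, 2, 0, 2, 0, 0, 0, 2, 2, 0, 2, 1, 2, 2], [0, 0, 0, 2, 0, 2, 0, 3, 3, 1, 3, 1, 2, 1, 1, 2], [0, 0, 0, 2, 0, 2, 1, 2, 2, 2, 1, 3, 1, 3, 3, 3], [0, 0, 0, 2, 0, 2, 1, 3, 3, 1, 2, 1, 3, 0, 0, 2], [0, 0, 0, 2, 0, 2, 2, 1, 3, 0, 0, 3, 3, 1, 1, 2], [0, 0, 0, 2, 0, 2, 2, 1, 3, 1, 2, 0, 0, 0, 3, 3], [0, 0, 0, 2, 0, 2, 2, 1, 3, 3, 3, 0, 0, 2, 0, 2], [0, 0, 0, 2, 0, 2, 2, 2, 0, 0, 2, 1, 3, 0, 2, 2], [0, 0, 0, 2, 0, 2, 2, 2, 0, 2, 1, 3, 1, 2, 2, 2], [0, 0, 0, 2, 0, 3, 0, 0, 2, 2, 0, 2, 1, 3, 3, 3], [0, 0, 0, 2, 0, 3, 0, 3, 0, 2, 1, 1, 1, 2, 0, 3], [0, 0, 0, 2, 0, 3, 1, 1, 3, 3, 3, 3, 1, 3, 1,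 3], [0, 0, 0, 2, 0, 3, 1, 2, 2, 0, 2, 1, 3, 1, 3, 3], [0, 0, 0, 2, 0, 3, 3, 1, 2, 1, 2, 1, 1, 2, 0, 3], [0, 0, 0, 2, 1, 1, 1, 2, 2, 1, 1, 2, 1, 3, 1, 3], [0, 0, 0, 2, 1, 1, 1, 2, 2, 1, 2, 1, 3, 0, 3, 3], [0, 0, 0, 2, 1, 1, 1, 3, 0, 2, 2, 1, 2, 2, 0, 2], [0, 0, 0, 2, 1, 1, 3, 1, 3, 3, 3, 3, 0, 3, 0, 3], [0, 0, 0, 2, 1, 1, 3, 3, 0, 3, 3, 0, 3, 3, 1, 2], [0, 0, 0, 2, 1, 2, 0, 0, 2, 2, 2, 0, 2, 2, 0, 2], [0, 0, 0, 2, 1, 2, 1, 1, 2, 2, 0, 0, 3, 1, 2, 2], [0, 0, 0, 2, 1, 2, 1, 3, 3, 1, 3, 3, 3, 1, 1, 2], [0, 0, 0, 2, 1, 3, 0, 0, 0, 3, 0, 3, 3, 3, 0, 3], [0, 0, 0, 2, 1, 3, 3, 0, 2, 1, 2, 2, 1, 3, 0, 2], [0, 0, 0, 2, 1, 3, 3, 0, 3, 3, 0, 0, 3, 1, 1,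 2], [0, 0, 0, 2, 2, 0, 0, 0, 3, 3, 0, 0, 2, 1, 1, 2], [0, 0, 0, 2, 2, 0, 2, 1, 1, 2, 0, 3, 1, 1, 3, 3], [0, 0, 0, 2, 2, 0, 2, 1, 3, 0, 2, 0, 3, 1, 3, 3], [0, 0, 0, 2, 2, 0, 3, 0, 3, 0, 3, 1, 2, 2, 2, 2], [0, 0, 0, 2, 2, 1, 1, 1, 2, 2, 2, 1, 3, 3, 1, 3], [0, 0, 0, 2, 2, 1, 1, 2, 1, 1, 1, 3, 0, 0, 0, 3], [0, 0, 0, 2, 2, 1, 3, 0, 0, 2, 2, 1, 2, 0, 0, 3], [0, 0, 0, 2, 2, 2, 1, 1, 1, 2, 0, 0, 2, 2, 1, 3], [0, 0, 0, 2, 2, 2, 1, 3, 0, 0, 3, 1, 3, 3, 1, 2], [0, 0, 0, 2, 2, 2, 1, 3, 1, 2, 2, 0, 3, 1, 3, 3], [0, 0, 0, 3, 0, 0, 2, 2, 2, 1, 1, 2, 2, 2, 0, 2], [0, 0, 0, 3, 0, 2, 0, 0, 3, 1, 1, 3, 1, 3, 3, 3], [0, 0, 0, 3, 0, 2, 0, 3, 3, 0, 0, 3, 1, 2, 2,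 2], [0, 0, 0, 3, 0, 2, 2, 1, 1, 1, 3, 0, 0, 2, 1, 2], [0, 0, 0, 3, 0, 2, 2, 2, 1, 3, 3, 0, 3, 3, 0, 2], [0, 0, 0, 3, 0, 3, 0, 3, 1, 2, 2, 2, 1, 1, 2, 2], [0, 0, 0, 3, 0, 3, 1, 3, 1, 1, 2, 2, 0, 2, 1, 2], [0, 0, 0, 3, 0, 3, 1, 3, 1, 2, 0, 0, 3, 1, 3, 3], [0, 0, 0, 3, 0, 3, 3, 0, 2, 2, 1, 3, 0, 2, 0, 2], [0, 0, 0, 3, 0, 3, 3, 1, 2, 2, 2, 2, 0, 2, 0, 3], [0, 0, 0, 3, 1, 2, 0, 0, 3, 3, 0, 3, 3, 0, 2, 2], [0, 0, 0, 3, 1, 2, 0, 2, 2, 0, 2, 1, 3, 3, 1, 3], [0, 0, 0, 3, 1, 2, 0, 2, 2, 2, 1, 1, 3, 0, 3, 3], [0, 0, 0, 3, 1, 2, 1, 3, 0, 2, 2, 2, 0, 3, 0, 2], [0, 0, 0, 3, 1, 2, 2, 1, 1, 3, 1, 2, 0, 2, 0, 2], [0, 0, 0, 3, 1, 2, 2, 1, 3, 0, 3, 1, 1, 2, 1,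 3], [4, 4, 4, 4, 4, 4, 4], [0, 2, 0, 0, 3, 1, 3, 4, 2, 0, 3, 5, 5, 1, 1, 4, 0, 0, 4, 4, 2, 1, 3, 5, 2, 0, 2, 1, 1, 3, 1, 5, 5]]

/-- the inverse pair words -/
def pairL : List (List ℕ) := [[0, 1], [1, 0], [2, 3], [3, 2], [4, 5], [5, 4]]

/-- the symbol relators -/
def symL : List (List ℕ) := [[0, 2, 5, 0, 2, 5], [0, 0, 2, 0, 4, 0, 0, 2, 0, 4], [0, 0, 5, 3, 1, 3, 0, 5, 0, 3, 0, 2], [0, 0, 0, 2, 0, 0, 5, 2, 0, 5, 3], [0, 4, 0, 4, 0, 4, 0, 4], [0, 3, 5, 0, 3, 5, 0, 3, 5, 0, 3, 5]]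

/-- the other central relators -/
def cenL : List (List ℕ) := [[0, 2, 0, 2, 2, 1, 4, 0, 2, 0, 2, 2, 1, 4], [0, 0, 4, 0, 3, 1, 2, 2, 1, 4, 0, 3, 3, 3], [0, 0, 2, 1, 5, 3, 3, 1, 2, 2, 2, 0, 4, 0, 2], [0, 0, 5, 1, 2, 0, 2, 1, 2, 4, 3, 3, 0, 2], [0, 0, 2, 1, 2, 5, 3, 1, 1, 2, 2, 2, 1, 4, 0, 3], [0, 0, 2, 0, 2, 2, 0, 4, 1, 1, 3, 0, 3, 1, 3, 5], [0, 0, 2, 0, 2, 1, 1, 5, 0, 0, 2, 0, 2, 1, 1, 5], [0, 0, 2, 4, 3, 3, 0, 3, 0, 0, 3, 4, 2, 2, 2], [0, 0, 0, 2, 0, 3, 4, 0, 3, 1, 2, 2, 2, 5, 3], [0, 0, 0, 2, 1, 3, 5, 0, 0, 0, 2, 1, 3, 5], [0, 0, 0, 3, 0, 0, 3, 5, 1, 1, 1, 3, 0, 0, 4], [0, 0, 3, 3, 0, 4, 0, 2, 1, 2, 2, 2, 4, 1, 3], [0, 0, 0, 2, 1, 4, 1, 1,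 1, 3, 3, 0, 3, 5, 2, 2], [0, 0, 2, 1, 5, 2, 2, 1, 2, 2, 1, 1, 2, 4, 0, 2], [4, 2, 2, 2, 0, 3, 0, 5, 1, 3, 1, 3, 0, 0, 2, 1, 1], [0, 0, 0, 5, 0, 3, 0, 0, 3, 1, 3, 5, 2, 1, 3, 3], [0, 0, 3, 1, 5, 3, 3, 0, 3, 1, 2, 4, 3, 3, 1, 3], [4, 0, 2, 1, 2, 2, 1, 3, 0, 5, 2, 0, 3, 0, 3, 3, 0], [0, 0, 0, 0, 4, 2, 0, 3, 0, 0, 0, 0, 4, 2, 0, 3], [0, 0, 0, 3, 0, 0, 4, 3, 0, 0, 0, 3, 0, 0, 4, 3], [0, 0, 0, 4, 1, 1, 3, 3, 1, 2, 0, 0, 4, 0, 3, 3], [0, 0, 2, 2, 1, 3, 4, 0, 3, 1, 3, 0, 3, 0, 5, 3], [0, 2, 0, 2, 5, 3, 3, 3, 0, 3, 1, 5, 0, 2, 1, 2], [4, 0, 3, 0, 3, 1, 1, 3, 5, 1, 1, 1, 2, 2, 1, 3, 1], [4, 0, 3, 3, 1, 1, 1, 2, 5, 2, 0, 3, 1, 3, 1, 3, 3], [0, 0, 2, 2,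 2, 4, 1, 2, 0, 2, 4, 3, 0, 3], [0, 2, 0, 2, 0, 2, 0, 2, 0, 2, 4, 3, 1, 4], [0, 0, 0, 2, 1, 3, 3, 1, 4, 3, 0, 0, 2, 1, 3, 5], [0, 0, 0, 2, 4, 0, 3, 1, 2, 2, 1, 4, 2, 2, 1, 3], [0, 0, 0, 4, 0, 2, 0, 2, 2, 2, 5, 1, 3, 1, 3, 3], [0, 0, 0, 4, 2, 2, 2, 0, 0, 2, 4, 0, 3, 3, 0, 2], [0, 0, 2, 1, 1, 3, 0, 0, 4, 1, 3, 3, 1, 3, 3, 4], [0, 0, 3, 1, 3, 5, 1, 3, 3, 3, 0, 2, 2, 4, 3, 3], [4, 0, 2, 0, 3, 0, 3, 0, 5, 0, 3, 3, 0, 2, 0, 2, 0], [4, 0, 0, 3, 1, 3, 1, 2, 5, 1, 1, 1, 3, 1, 3, 0, 0], [4, 0, 2, 1, 1, 1, 3, 0, 2, 0, 5, 0, 3, 3, 0, 3, 3, 0, 0], [0, 0, 2, 0, 4, 2, 2, 2, 0, 3, 3, 4, 1, 3, 0, 2], [0, 0, 2, 2, 2, 1, 1, 4, 0, 0, 2, 2, 2, 1, 1, 4], [0, 0, 2,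 2, 5, 3, 1, 2, 2, 0, 3, 1, 5, 3], [0, 0, 0, 2, 0, 0, 4, 0, 2, 1, 1, 1, 3, 0, 4], [0, 0, 0, 0, 3, 0, 2, 5, 2, 0, 5, 1, 3], [0, 0, 0, 0, 2, 2, 0, 0, 5, 1, 2, 2, 1, 1, 4], [0, 2, 1, 5, 2, 0, 5, 2, 0, 2, 2, 2, 2], [4, 0, 0, 2, 2, 2, 1, 2, 5, 1, 3, 0, 2, 2, 0, 0, 0], [0, 0, 0, 3, 0, 5, 2, 0, 3, 1, 4, 1, 1, 3], [0, 2, 1, 5, 2, 2, 0, 2, 4, 1, 3, 0, 3, 3], [0, 0, 0, 2, 2, 4, 2, 2, 2, 0, 3, 3, 4, 2, 2], [0, 0, 2, 2, 5, 2, 1, 2, 1, 2, 1, 1, 3, 5, 3], [0, 2, 0, 2, 2, 5, 3, 1, 3, 3, 0, 2, 5, 1, 2], [0, 0, 0, 4, 1, 2, 0, 2, 2, 0, 5, 2, 0, 0, 3, 3], [0, 0, 0, 5, 0, 0, 3, 0, 2, 1, 2, 4, 3, 3, 0, 3], [0, 0, 0, 3, 0, 3, 5, 2, 0, 5, 2, 1, 2, 2], [0, 0, 2, 0, 5,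 2, 0, 3, 1, 4, 0, 3, 3, 3], [0, 0, 2, 0, 3, 3, 5, 1, 2, 2, 1, 2, 5, 0, 3], [0, 0, 3, 1, 3, 1, 5, 0, 2, 1, 3, 0, 2, 5, 3], [0, 0, 0, 0, 3, 3, 5, 2, 2, 1, 3, 3, 3, 5, 3, 3], [0, 0, 0, 2, 0, 2, 2, 1, 1, 5, 0, 2, 1, 3, 4, 2], [0, 0, 0, 2, 1, 4, 3, 0, 3, 5, 2, 0, 5, 5, 2, 2], [0, 0, 0, 2, 1, 4, 3, 1, 1, 2, 2, 1, 1, 4, 1, 2], [4, 2, 1, 1, 3, 0, 0, 2, 1, 5, 3, 3, 3, 1, 1, 3, 0], [0, 2, 0, 3, 1, 3, 3, 3, 4, 1, 3, 0, 2, 5, 3, 3], [4, 0, 3, 0, 0, 3, 0, 0, 2, 5, 1, 2, 1, 1, 2, 0, 2, 0], [4, 0, 3, 1, 2, 0, 2, 0, 0, 5, 3, 3, 0, 3, 3, 1, 3, 0], [4, 2, 1, 3, 1, 4, 3, 3, 1, 1, 2, 4, 3, 4, 0, 3, 3, 3, 1, 3, 0, 0], [4, 2, 1, 4, 0, 3, 0, 0, 3, 0, 4, 2, 0, 4, 0,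 3, 1, 2, 1, 1, 1, 3, 3], [4, 1, 2, 0, 4, 0, 0, 0, 2, 0, 0, 4, 0, 3, 0, 3, 4, 2, 0, 2, 0, 2, 2, 2, 1], [0, 0, 2, 4, 2, 2, 2, 5, 2, 1, 3, 0, 4, 1, 1, 5], [4, 0, 2, 0, 4, 0, 2, 4, 2, 2, 2, 4, 1, 2, 1, 1, 1, 2], [0, 0, 2, 4, 2, 2, 0, 3, 3, 3, 1, 2, 4, 2, 2, 2], [4, 0, 4, 1, 2, 0, 0, 0, 4, 3, 3, 3, 4, 1, 2, 0, 2, 0, 2, 0], [0, 0, 2, 1, 4, 1, 2, 0, 2, 2, 0, 5, 3], [0, 0, 0, 2, 0, 4, 1, 3, 0, 2, 5, 2], [0, 0, 0, 5, 3, 1, 3, 0, 5, 3, 1, 2, 1, 2], [0, 0, 2, 0, 2, 0, 5, 2, 2, 1, 2, 2, 2, 1, 4], [0, 0, 2, 1, 1, 2, 2, 0, 3, 5, 3, 1, 3, 0, 5], [0, 0, 2, 2, 2, 0, 2, 1, 3, 5, 2, 2, 0, 2, 4], [0, 0, 3, 1, 3, 1, 3, 1, 4, 1, 3, 0, 2, 5, 3], [0, 0, 0, 2, 0, 5,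 1, 2, 5, 2, 0, 5, 5, 1, 1, 2], [0, 0, 0, 2, 2, 2, 1, 2, 2, 2, 5, 0, 2, 1, 3, 4], [0, 0, 0, 2, 2, 2, 1, 4, 3, 3, 1, 1, 2, 4, 3, 3], [0, 0, 2, 0, 3, 3, 1, 1, 5, 3, 0, 0, 2, 1, 4, 2], [0, 0, 2, 1, 2, 5, 0, 5, 2, 0, 3, 1, 4, 4, 0, 3], [0, 0, 2, 2, 5, 3, 1, 2, 2, 0, 5, 0, 2, 5, 5, 3], [0, 0, 3, 3, 0, 2, 2, 4, 2, 0, 2, 0, 0, 3, 3, 4], [0, 2, 0, 2, 1, 2, 2, 2, 4, 3, 1, 3, 1, 3, 0, 5], [0, 0, 0, 2, 0, 3, 1, 3, 0, 5, 2, 0, 5, 2], [0, 0, 2, 2, 2, 4, 1, 2, 0, 2, 0, 2, 5, 0, 0, 3], [0, 2, 0, 2, 2, 1, 4, 2, 1, 2, 5, 2, 0, 5, 2, 4], [0, 0, 2, 2, 1, 1, 2, 1, 5, 0, 2, 1, 3, 4], [0, 2, 0, 3, 4, 1, 2, 5, 2, 2, 2, 5, 2, 2, 5, 2], [4, 1, 1, 2, 2, 2, 0, 3, 5, 1,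 2, 1, 1, 1, 2, 2, 1], [4, 2, 0, 3, 1, 1, 1, 2, 0, 5, 1, 1, 3, 1, 1, 1, 3, 1], [4, 3, 3, 4, 3, 0, 2, 4, 2, 2, 1, 4, 3, 1, 2, 2, 1, 2], [4, 2, 0, 3, 4, 1, 1, 4, 1, 3, 1, 4, 3, 0, 3, 3, 1, 3], [4, 1, 1, 4, 2, 0, 2, 2, 1, 4, 3, 4, 3, 1, 3, 0, 2, 0, 2], [4, 2, 2, 4, 0, 3, 3, 1, 3, 4, 3, 4, 0, 2, 1, 2, 1, 2, 0], [0, 0, 0, 2, 0, 2, 2, 1, 5, 2, 0, 5, 1, 3, 3, 3], [4, 2, 0, 3, 3, 4, 3, 4, 3, 0, 3, 1, 1, 4, 0, 0, 2, 1, 1, 3, 1], [0, 0, 0, 3, 1, 5, 5, 2, 0, 5, 3, 5, 1, 2], [0, 0, 2, 2, 1, 2, 1, 3, 0, 3, 4, 1, 3, 4], [4, 3, 3, 3, 1, 2, 0, 0, 3, 5, 3, 0, 0, 0, 3, 0, 0, 3], [4, 0, 2, 0, 4, 0, 0, 0, 2, 1, 4, 3, 3, 3, 1, 4, 0, 2, 2, 2, 0, 0], [4, 0, 0, 2, 4,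 0, 3, 0, 0, 2, 2, 4, 2, 2, 1, 4, 1, 1, 2, 2, 0, 0, 2], [0, 2, 1, 3, 4, 1, 2, 0, 2, 4, 1, 3], [4, 0, 0, 3, 0, 4, 1, 2, 2, 2, 0, 4, 2, 2, 2, 4, 0, 2, 2, 2, 1, 1, 3, 0]]

/-- the unit vectors -/
def unitL : List (List ℤ) := [[(1 : ℤ), (0 : ℤ), (0 : ℤ), (0 : ℤ), (0 : ℤ), (0 : ℤ)], [(0 : ℤ), (1 : ℤ), (0 : ℤ), (0 : ℤ), (0 : ℤ), (0 : ℤ)], [(0 : ℤ), (0 : ℤ), (1 : ℤ), (0 : ℤ), (0 : ℤ), (0 : ℤ)], [(0 : ℤ), (0 : ℤ), (0 : ℤ), (1 : ℤ), (0 : ℤ), (0 : ℤ)], [(0 : ℤ), (0 : ℤ), (0 : ℤ), (0 : ℤ), (1 : ℤ), (0 : ℤ)], [(0 : ℤ), (0 : ℤ), (0 : ℤ), (0 : ℤ), (0 : ℤ), (1 : ℤ)]]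

theorem seed_cases : ∀ p ∈ seedL, (p.2 = List.replicate 6 0 ∧ p.1 ∈ exactL ++ pairL) ∨
    p ∈ List.zip symL unitL := by
  decide

theorem rel_cases : ∀ w ∈ relL, w ∈ exactL ++ pairL ∨ w ∈ symL ++ cenL := by
  decide

/-- the pairs of words giving the relations, with the difference of their twists -/
def relPairs : List (ℕ × ℕ × List ℤ) := [(2, 321, [(1 : ℤ), (0 : ℤ), (1 : ℤ), (-2 : ℤ), (0 : ℤ), (0 : ℤ)]), (4, 322, [(-2 : ℤ), (0 : ℤ), (2 : ℤ), (0 : ℤ), (0 : ℤ), (0 : ℤ)]), (7, 323, [(0 : ℤ), (-2 : ℤ), (2 : ℤ), (0 : ℤ), (2 : ℤ), (0 : ℤ)]), (45, 324, [(-1 : ℤ), (-2 : ℤ), (-3 : ℤ), (-2 : ℤ), (0 : ℤ), (2 : ℤ)]), (210, 325, [(-43 : ℤ), (1 : ℤ), (23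 : ℤ), (21 : ℤ), (0 : ℤ), (0 : ℤ)]), (81, 326, [(87 : ℤ), (26 : ℤ), (96 : ℤ), (-157 : ℤ), (-178 : ℤ), (-176 : ℤ)]), (128, 327, [(-15 : ℤ), (-184 : ℤ), (-185 : ℤ), (-35 : ℤ), (158 : ℤ), (182 : ℤ)])]

/-- check of a relation pair: same relator word, twists differing by `v` -/
noncomputable def relChk (p : ℕ × ℕ × List ℤ) : Bool :=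
  match WT.get words p.1, WT.get words p.2.1 with
  | some (wd1, true), some (wd2, true) => decide (wd1 = wd2) && decide (Ev p.2.1 = ladd (Ev p.1) p.2.2) &&
      decide (p.1 < 328) && decide (p.2.1 < 328)
  | _, _ => false

theorem rel_chk : ∀ p ∈ relPairs, relChk p = true := by
  decide +kernel

end Cfsg.Agent.Lib.H29.O8M.Cert
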