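import Cfsg.Agent.Lib.H29.O8M.Cert.StepsA
import Cfsg.Agent.Lib.H29.O8M.Cert.StepsB
import Cfsg.Agent.Lib.H29.O8M.Cert.StepsC
import Cfsg.Agent.Lib.H29.O8M.Cert.StepsD
import Cfsg.Agent.Lib.H29.O8M.Cert.StepsE
import Cfsg.Agent.Lib.H29.O8M.Cert.StepsF
import Cfsg.Agent.Lib.H29.O8M.Cert.StepsG
import Cfsg.Agent.Lib.H29.O8M.Cert.StepsH
import Cfsg.Agent.Lib.H29.O8M.Cert.StepsI
import Cfsg.Agent.Lib.H29.O8M.Cert.StepsJ
import Cfsg.Agent.Lib.H29.O8M.Cert.StepsK
import Cfsg.Agent.Lib.H29.O8M.Cert.StepsL
import Cfsg.Agent.Lib.H29.O8M.Cert.StepsM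
import Cfsg.Agent.Lib.H29.O8M.Cert.StepsN
import Cfsg.Agent.Lib.H29.O8M.Cert.StepsO
import Cfsg.Agent.Lib.H29.O8M.Cert.Rows

set_option autoImplicit false
set_option maxRecDepth 100000

/-! # Running the monomial certificate (generated) -/

namespace Cfsg.Agent.Lib.H29.O8M.Cert

open Cfsg.Agent.Lib.H17.CosetCert (BT WT)
open Cfsg.Agent.Lib.H17.MonoCert
open Cfsg.Agent.Lib.H12.J3M

variable {G Q A : Type*} [Group G] [MulAction G Q] [Group A] [MulAction A Q]
  [SMulCommClass G A Q] (tw : List ℤ → A) (γ : ℕ → G)

theorem run (hfree : ∀ (α β : A) (q : Q), α • q = β • q → α = β)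
    (htw : TwOK ladd (List.replicate 6 0) leq tw) (q0 : Q) (hw : WordsOK Ev tw γ q0 words 216) :
    Inv F Ev tw γ q0 words 172800 28800 328 := by
  have h0 := inv_zero F Ev tw γ q0 words 216 hw
  have h1 := checkSteps_sound ladd (List.replicate 6 0) leq F Ev 6 262144 tw γ hfree htw q0 words 216 hw steps0 0 1 216 1500 688 216 h0 chk0
  have h2 := checkSteps_sound ladd (List.replicate 6 0) leq F Ev 6 262144 tw γ hfree htw q0 words 216 hw steps1 1500 688 216 3000 1300 216 h1 chk1
  have h3 := checkSteps_sound ladd (List.replicate 6 0) leq F Ev 6 262144 tw γ hfree htw q0 words 216 hw steps2 3000 1300 216 4500 1878 216 h2 chk2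
  have h4 := checkSteps_sound ladd (List.replicate 6 0) leq F Ev 6 262144 tw γ hfree htw q0 words 216 hw steps3 4500 1878 216 6000 2568 216 h3 chk3
  have h5 := checkSteps_sound ladd (List.replicate 6 0) leq F Ev 6 262144 tw γ hfree htw q0 words 216 hw steps4 6000 2568 216 7500 3207 216 h4 chk4
  have h6 := checkSteps_sound ladd (List.replicate 6 0) leq F Ev 6 262144 tw γ hfree htw q0 words 216 hw steps5 7500 3207 216 9000 3749 216 h5 chk5
  have h7 := checkSteps_sound ladd (List.replicate 6 0) leq F Ev 6 262144 tw γ hfree htw q0 words 216 hw steps6 9000 3749 216 10500 4202 216 h6 chk6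
  have h8 := checkSteps_sound ladd (List.replicate 6 0) leq F Ev 6 262144 tw γ hfree htw q0 words 216 hw steps7 10500 4202 216 12000 4610 216 h7 chk7
  have h9 := checkSteps_sound ladd (List.replicate 6 0) leq F Ev 6 262144 tw γ hfree htw q0 words 216 hw steps8 12000 4610 216 13500 4974 216 h8 chk8
  have h10 := checkSteps_sound ladd (List.replicate 6 0) leq F Ev 6 262144 tw γ hfree htw q0 words 216 hw steps9 13500 4974 216 15000 5609 216 h9 chk9
  have h11 := checkSteps_sound ladd (List.replicate 6 0) leq F Ev 6 262144 tw γ hfree htw q0 words 216 hw steps10 15000 5609 216 16500 6258 216 h10 chk10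
  have h12 := checkSteps_sound ladd (List.replicate 6 0) leq F Ev 6 262144 tw γ hfree htw q0 words 216 hw steps11 16500 6258 216 18000 6916 216 h11 chk11
  have h13 := checkSteps_sound ladd (List.replicate 6 0) leq F Ev 6 262144 tw γ hfree htw q0 words 216 hw steps12 18000 6916 216 19500 7579 216 h12 chk12
  have h14 := checkSteps_sound ladd (List.replicate 6 0) leq F Ev 6 262144 tw γ hfree htw q0 words 216 hw steps13 19500 7579 216 21000 8219 216 h13 chk13
  have h15 := checkSteps_sound ladd (List.replicate 6 0) leq F Ev 6 262144 tw γ hfree htw q0 words 216 hw steps14 21000 8219 216 22500 8771 216 h14 chk14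
  have h16 := checkSteps_sound ladd (List.replicate 6 0) leq F Ev 6 262144 tw γ hfree htw q0 words 216 hw steps15 22500 8771 216 24000 9232 216 h15 chk15
  have h17 := checkSteps_sound ladd (List.replicate 6 0) leq F Ev 6 262144 tw γ hfree htw q0 words 216 hw steps16 24000 9232 216 25500 9651 216 h16 chk16
  have h18 := checkSteps_sound ladd (List.replicate 6 0) leq F Ev 6 262144 tw γ hfree htw q0 words 216 hw steps17 25500 9651 216 27000 10008 216 h17 chk17
  have h19 := checkSteps_sound ladd (List.replicate 6 0) leq F Ev 6 262144 tw γ hfree htw q0 words 216 hw steps18 27000 10008 216 28500 10626 216 h18 chk18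
  have h20 := checkSteps_sound ladd (List.replicate 6 0) leq F Ev 6 262144 tw γ hfree htw q0 words 216 hw steps19 28500 10626 216 30000 11276 216 h19 chk19
  have h21 := checkSteps_sound ladd (List.replicate 6 0) leq F Ev 6 262144 tw γ hfree htw q0 words 216 hw steps20 30000 11276 216 31500 11949 216 h20 chk20
  have h22 := checkSteps_sound ladd (List.replicate 6 0) leq F Ev 6 262144 tw γ hfree htw q0 words 216 hw steps21 31500 11949 216 33000 12599 216 h21 chk21
  have h23 := checkSteps_sound ladd (List.replicate 6 0) leq F Ev 6 262144 tw γ hfree htw q0 words 216 hw steps22 33000 12599 216 34500 13221 216 h22 chk22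
  have h24 := checkSteps_sound ladd (List.replicate 6 0) leq F Ev 6 262144 tw γ hfree htw q0 words 216 hw steps23 34500 13221 216 36000 13895 216 h23 chk23
  have h25 := checkSteps_sound ladd (List.replicate 6 0) leq F Ev 6 262144 tw γ hfree htw q0 words 216 hw steps24 36000 13895 216 37500 14532 216 h24 chk24
  have h26 := checkSteps_sound ladd (List.replicate 6 0) leq F Ev 6 262144 tw γ hfree htw q0 words 216 hw steps25 37500 14532 216 39000 15176 216 h25 chk25
  have h27 := checkSteps_sound ladd (List.replicate 6 0) leq F Ev 6 262144 tw γ hfree htw q0 words 216 hw steps26 39000 15176 216 40500 15698 216 h26 chk26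
  have h28 := checkSteps_sound ladd (List.replicate 6 0) leq F Ev 6 262144 tw γ hfree htw q0 words 216 hw steps27 40500 15698 216 42000 16379 216 h27 chk27
  have h29 := checkSteps_sound ladd (List.replicate 6 0) leq F Ev 6 262144 tw γ hfree htw q0 words 216 hw steps28 42000 16379 216 43500 17008 216 h28 chk28
  have h30 := checkSteps_sound ladd (List.replicate 6 0) leq F Ev 6 262144 tw γ hfree htw q0 words 216 hw steps29 43500 17008 216 45000 17536 216 h29 chk29
  have h31 := checkSteps_sound ladd (List.replicate 6 0) leq F Ev 6 262144 tw γ hfree htw q0 words 216 hw steps30 45000 17536 216 46500 17975 216 h30 chk30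
  have h32 := checkSteps_sound ladd (List.replicate 6 0) leq F Ev 6 262144 tw γ hfree htw q0 words 216 hw steps31 46500 17975 216 48000 18379 216 h31 chk31
  have h33 := checkSteps_sound ladd (List.replicate 6 0) leq F Ev 6 262144 tw γ hfree htw q0 words 216 hw steps32 48000 18379 216 49500 18751 216 h32 chk32
  have h34 := checkSteps_sound ladd (List.replicate 6 0) leq F Ev 6 262144 tw γ hfree htw q0 words 216 hw steps33 49500 18751 216 51000 19457 216 h33 chk33
  have h35 := checkSteps_sound ladd (List.replicate 6 0) leq F Ev 6 262144 tw γ hfree htw q0 words 216 hw steps34 51000 19457 216 52500 20117 216 h34 chk34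
  have h36 := checkSteps_sound ladd (List.replicate 6 0) leq F Ev 6 262144 tw γ hfree htw q0 words 216 hw steps35 52500 20117 216 54000 20784 216 h35 chk35
  have h37 := checkSteps_sound ladd (List.replicate 6 0) leq F Ev 6 262144 tw γ hfree htw q0 words 216 hw steps36 54000 20784 216 55500 21409 216 h36 chk36
  have h38 := checkSteps_sound ladd (List.replicate 6 0) leq F Ev 6 262144 tw γ hfree htw q0 words 216 hw steps37 55500 21409 216 57000 21969 216 h37 chk37
  have h39 := checkSteps_sound ladd (List.replicate 6 0) leq F Ev 6 262144 tw γ hfree htw q0 words 216 hw steps38 57000 21969 216 58500 22630 216 h38 chk38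
  have h40 := checkSteps_sound ladd (List.replicate 6 0) leq F Ev 6 262144 tw γ hfree htw q0 words 216 hw steps39 58500 22630 216 60000 23192 216 h39 chk39
  have h41 := checkSteps_sound ladd (List.replicate 6 0) leq F Ev 6 262144 tw γ hfree htw q0 words 216 hw steps40 60000 23192 216 61500 23857 216 h40 chk40
  have h42 := checkSteps_sound ladd (List.replicate 6 0) leq F Ev 6 262144 tw γ hfree htw q0 words 216 hw steps41 61500 23857 216 63000 24503 216 h41 chk41
  have h43 := checkSteps_sound ladd (List.replicate 6 0) leq F Ev 6 262144 tw γ hfree htw q0 words 216 hw steps42 63000 24503 216 64500 25167 216 h42 chk42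
  have h44 := checkSteps_sound ladd (List.replicate 6 0) leq F Ev 6 262144 tw γ hfree htw q0 words 216 hw steps43 64500 25167 216 66000 25809 216 h43 chk43
  have h45 := checkSteps_sound ladd (List.replicate 6 0) leq F Ev 6 262144 tw γ hfree htw q0 words 216 hw steps44 66000 25809 216 67500 26443 216 h44 chk44
  have h46 := checkSteps_sound ladd (List.replicate 6 0) leq F Ev 6 262144 tw γ hfree htw q0 words 216 hw steps45 67500 26443 216 69000 27128 216 h45 chk45
  have h47 := checkSteps_sound ladd (List.replicate 6 0) leq F Ev 6 262144 tw γ hfree htw q0 words 216 hw steps46 69000 27128 216 70500 27768 216 h46 chk46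
  have h48 := checkSteps_sound ladd (List.replicate 6 0) leq F Ev 6 262144 tw γ hfree htw q0 words 216 hw steps47 70500 27768 216 72000 28404 216 h47 chk47
  have h49 := checkSteps_sound ladd (List.replicate 6 0) leq F Ev 6 262144 tw γ hfree htw q0 words 216 hw steps48 72000 28404 216 73491 28800 225 h48 chk48
  have h50 := checkSteps_sound ladd (List.replicate 6 0) leq F Ev 6 262144 tw γ hfree htw q0 words 216 hw steps49 73491 28800 225 74982 28800 234 h49 chk49
  have h51 := checkSteps_sound ladd (List.replicate 6 0) leq F Ev 6 262144 tw γ hfree htw q0 words 216 hw steps50 74982 28800 234 76464 28800 252 h50 chk50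
  have h52 := checkSteps_sound ladd (List.replicate 6 0) leq F Ev 6 262144 tw γ hfree htw q0 words 216 hw steps51 76464 28800 252 77964 28800 252 h51 chk51
  have h53 := checkSteps_sound ladd (List.replicate 6 0) leq F Ev 6 262144 tw γ hfree htw q0 words 216 hw steps52 77964 28800 252 79464 28800 252 h52 chk52
  have h54 := checkSteps_sound ladd (List.replicate 6 0) leq F Ev 6 262144 tw γ hfree htw q0 words 216 hw steps53 79464 28800 252 80930 28800 286 h53 chk53
  have h55 := checkSteps_sound ladd (List.replicate 6 0) leq F Ev 6 262144 tw γ hfree htw q0 words 216 hw steps54 80930 28800 286 82395 28800 321 h54 chk54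
  have h56 := checkSteps_sound ladd (List.replicate 6 0) leq F Ev 6 262144 tw γ hfree htw q0 words 216 hw steps55 82395 28800 321 83895 28800 321 h55 chk55
  have h57 := checkSteps_sound ladd (List.replicate 6 0) leq F Ev 6 262144 tw γ hfree htw q0 words 216 hw steps56 83895 28800 321 85395 28800 321 h56 chk56
  have h58 := checkSteps_sound ladd (List.replicate 6 0) leq F Ev 6 262144 tw γ hfree htw q0 words 216 hw steps57 85395 28800 321 86895 28800 321 h57 chk57
  have h59 := checkSteps_sound ladd (List.replicate 6 0) leq F Ev 6 262144 tw γ hfree htw q0 words 216 hw steps58 86895 28800 321 88395 28800 321 h58 chk58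
  have h60 := checkSteps_sound ladd (List.replicate 6 0) leq F Ev 6 262144 tw γ hfree htw q0 words 216 hw steps59 88395 28800 321 89895 28800 321 h59 chk59
  have h61 := checkSteps_sound ladd (List.replicate 6 0) leq F Ev 6 262144 tw γ hfree htw q0 words 216 hw steps60 89895 28800 321 91395 28800 321 h60 chk60
  have h62 := checkSteps_sound ladd (List.replicate 6 0) leq F Ev 6 262144 tw γ hfree htw q0 words 216 hw steps61 91395 28800 321 92895 28800 321 h61 chk61
  have h63 := checkSteps_sound ladd (List.replicate 6 0) leq F Ev 6 262144 tw γ hfree htw q0 words 216 hw steps62 92895 28800 321 94395 28800 321 h62 chk62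
  have h64 := checkSteps_sound ladd (List.replicate 6 0) leq F Ev 6 262144 tw γ hfree htw q0 words 216 hw steps63 94395 28800 321 95895 28800 321 h63 chk63
  have h65 := checkSteps_sound ladd (List.replicate 6 0) leq F Ev 6 262144 tw γ hfree htw q0 words 216 hw steps64 95895 28800 321 97395 28800 321 h64 chk64
  have h66 := checkSteps_sound ladd (List.replicate 6 0) leq F Ev 6 262144 tw γ hfree htw q0 words 216 hw steps65 97395 28800 321 98895 28800 321 h65 chk65
  have h67 := checkSteps_sound ladd (List.replicate 6 0) leq F Ev 6 262144 tw γ hfree htw q0 words 216 hw steps66 98895 28800 321 100395 28800 321 h66 chk66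
  have h68 := checkSteps_sound ladd (List.replicate 6 0) leq F Ev 6 262144 tw γ hfree htw q0 words 216 hw steps67 100395 28800 321 101895 28800 321 h67 chk67
  have h69 := checkSteps_sound ladd (List.replicate 6 0) leq F Ev 6 262144 tw γ hfree htw q0 words 216 hw steps68 101895 28800 321 103395 28800 321 h68 chk68
  have h70 := checkSteps_sound ladd (List.replicate 6 0) leq F Ev 6 262144 tw γ hfree htw q0 words 216 hw steps69 103395 28800 321 104895 28800 321 h69 chk69
  have h71 := checkSteps_sound ladd (List.replicate 6 0) leq F Ev 6 262144 tw γ hfree htw q0 words 216 hw steps70 104895 28800 321 106395 28800 321 h70 chk70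
  have h72 := checkSteps_sound ladd (List.replicate 6 0) leq F Ev 6 262144 tw γ hfree htw q0 words 216 hw steps71 106395 28800 321 107895 28800 321 h71 chk71
  have h73 := checkSteps_sound ladd (List.replicate 6 0) leq F Ev 6 262144 tw γ hfree htw q0 words 216 hw steps72 107895 28800 321 109395 28800 321 h72 chk72
  have h74 := checkSteps_sound ladd (List.replicate 6 0) leq F Ev 6 262144 tw γ hfree htw q0 words 216 hw steps73 109395 28800 321 110895 28800 321 h73 chk73
  have h75 := checkSteps_sound ladd (List.replicate 6 0) leq F Ev 6 262144 tw γ hfree htw q0 words 216 hw steps74 110895 28800 321 112395 28800 321 h74 chk74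
  have h76 := checkSteps_sound ladd (List.replicate 6 0) leq F Ev 6 262144 tw γ hfree htw q0 words 216 hw steps75 112395 28800 321 113895 28800 321 h75 chk75
  have h77 := checkSteps_sound ladd (List.replicate 6 0) leq F Ev 6 262144 tw γ hfree htw q0 words 216 hw steps76 113895 28800 321 115395 28800 321 h76 chk76
  have h78 := checkSteps_sound ladd (List.replicate 6 0) leq F Ev 6 262144 tw γ hfree htw q0 words 216 hw steps77 115395 28800 321 116895 28800 321 h77 chk77
  have h79 := checkSteps_sound ladd (List.replicate 6 0) leq F Ev 6 262144 tw γ hfree htw q0 words 216 hw steps78 116895 28800 321 118395 28800 321 h78 chk78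
  have h80 := checkSteps_sound ladd (List.replicate 6 0) leq F Ev 6 262144 tw γ hfree htw q0 words 216 hw steps79 118395 28800 321 119895 28800 321 h79 chk79
  have h81 := checkSteps_sound ladd (List.replicate 6 0) leq F Ev 6 262144 tw γ hfree htw q0 words 216 hw steps80 119895 28800 321 121395 28800 321 h80 chk80
  have h82 := checkSteps_sound ladd (List.replicate 6 0) leq F Ev 6 262144 tw γ hfree htw q0 words 216 hw steps81 121395 28800 321 122895 28800 321 h81 chk81
  have h83 := checkSteps_sound ladd (List.replicate 6 0) leq F Ev 6 262144 tw γ hfree htw q0 words 216 hw steps82 122895 28800 321 124395 28800 321 h82 chk82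
  have h84 := checkSteps_sound ladd (List.replicate 6 0) leq F Ev 6 262144 tw γ hfree htw q0 words 216 hw steps83 124395 28800 321 125895 28800 321 h83 chk83
  have h85 := checkSteps_sound ladd (List.replicate 6 0) leq F Ev 6 262144 tw γ hfree htw q0 words 216 hw steps84 125895 28800 321 127395 28800 321 h84 chk84
  have h86 := checkSteps_sound ladd (List.replicate 6 0) leq F Ev 6 262144 tw γ hfree htw q0 words 216 hw steps85 127395 28800 321 128895 28800 321 h85 chk85
  have h87 := checkSteps_sound ladd (List.replicate 6 0) leq F Ev 6 262144 tw γ hfree htw q0 words 216 hw steps86 128895 28800 321 130395 28800 321 h86 chk86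
  have h88 := checkSteps_sound ladd (List.replicate 6 0) leq F Ev 6 262144 tw γ hfree htw q0 words 216 hw steps87 130395 28800 321 131895 28800 321 h87 chk87
  have h89 := checkSteps_sound ladd (List.replicate 6 0) leq F Ev 6 262144 tw γ hfree htw q0 words 216 hw steps88 131895 28800 321 133395 28800 321 h88 chk88
  have h90 := checkSteps_sound ladd (List.replicate 6 0) leq F Ev 6 262144 tw γ hfree htw q0 words 216 hw steps89 133395 28800 321 134895 28800 321 h89 chk89
  have h91 := checkSteps_sound ladd (List.replicate 6 0) leq F Ev 6 262144 tw γ hfree htw q0 words 216 hw steps90 134895 28800 321 136395 28800 321 h90 chk90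
  have h92 := checkSteps_sound ladd (List.replicate 6 0) leq F Ev 6 262144 tw γ hfree htw q0 words 216 hw steps91 136395 28800 321 137895 28800 321 h91 chk91
  have h93 := checkSteps_sound ladd (List.replicate 6 0) leq F Ev 6 262144 tw γ hfree htw q0 words 216 hw steps92 137895 28800 321 139395 28800 321 h92 chk92
  have h94 := checkSteps_sound ladd (List.replicate 6 0) leq F Ev 6 262144 tw γ hfree htw q0 words 216 hw steps93 139395 28800 321 140895 28800 321 h93 chk93
  have h95 := checkSteps_sound ladd (List.replicate 6 0) leq F Ev 6 262144 tw γ hfree htw q0 words 216 hw steps94 140895 28800 321 142395 28800 321 h94 chk94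
  have h96 := checkSteps_sound ladd (List.replicate 6 0) leq F Ev 6 262144 tw γ hfree htw q0 words 216 hw steps95 142395 28800 321 143895 28800 321 h95 chk95
  have h97 := checkSteps_sound ladd (List.replicate 6 0) leq F Ev 6 262144 tw γ hfree htw q0 words 216 hw steps96 143895 28800 321 145395 28800 321 h96 chk96
  have h98 := checkSteps_sound ladd (List.replicate 6 0) leq F Ev 6 262144 tw γ hfree htw q0 words 216 hw steps97 145395 28800 321 146895 28800 321 h97 chk97
  have h99 := checkSteps_sound ladd (List.replicate 6 0) leq F Ev 6 262144 tw γ hfree htw q0 words 216 hw steps98 146895 28800 321 148395 28800 321 h98 chk98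
  have h100 := checkSteps_sound ladd (List.replicate 6 0) leq F Ev 6 262144 tw γ hfree htw q0 words 216 hw steps99 148395 28800 321 149895 28800 321 h99 chk99
  have h101 := checkSteps_sound ladd (List.replicate 6 0) leq F Ev 6 262144 tw γ hfree htw q0 words 216 hw steps100 149895 28800 321 151395 28800 321 h100 chk100
  have h102 := checkSteps_sound ladd (List.replicate 6 0) leq F Ev 6 262144 tw γ hfree htw q0 words 216 hw steps101 151395 28800 321 152895 28800 321 h101 chk101
  have h103 := checkSteps_sound ladd (List.replicate 6 0) leq F Ev 6 262144 tw γ hfree htw q0 words 216 hw steps102 152895 28800 321 154395 28800 321 h102 chk102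
  have h104 := checkSteps_sound ladd (List.replicate 6 0) leq F Ev 6 262144 tw γ hfree htw q0 words 216 hw steps103 154395 28800 321 155895 28800 321 h103 chk103
  have h105 := checkSteps_sound ladd (List.replicate 6 0) leq F Ev 6 262144 tw γ hfree htw q0 words 216 hw steps104 155895 28800 321 157395 28800 321 h104 chk104
  have h106 := checkSteps_sound ladd (List.replicate 6 0) leq F Ev 6 262144 tw γ hfree htw q0 words 216 hw steps105 157395 28800 321 158895 28800 321 h105 chk105
  have h107 := checkSteps_sound ladd (List.replicate 6 0) leq F Ev 6 262144 tw γ hfree htw q0 words 216 hw steps106 158895 28800 321 160395 28800 321 h106 chk106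
  have h108 := checkSteps_sound ladd (List.replicate 6 0) leq F Ev 6 262144 tw γ hfree htw q0 words 216 hw steps107 160395 28800 321 161895 28800 321 h107 chk107
  have h109 := checkSteps_sound ladd (List.replicate 6 0) leq F Ev 6 262144 tw γ hfree htw q0 words 216 hw steps108 161895 28800 321 163395 28800 321 h108 chk108
  have h110 := checkSteps_sound ladd (List.replicate 6 0) leq F Ev 6 262144 tw γ hfree htw q0 words 216 hw steps109 163395 28800 321 164895 28800 321 h109 chk109
  have h111 := checkSteps_sound ladd (List.replicate 6 0) leq F Ev 6 262144 tw γ hfree htw q0 words 216 hw steps110 164895 28800 321 166395 28800 321 h110 chk110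
  have h112 := checkSteps_sound ladd (List.replicate 6 0) leq F Ev 6 262144 tw γ hfree htw q0 words 216 hw steps111 166395 28800 321 167895 28800 321 h111 chk111
  have h113 := checkSteps_sound ladd (List.replicate 6 0) leq F Ev 6 262144 tw γ hfree htw q0 words 216 hw steps112 167895 28800 321 169395 28800 321 h112 chk112
  have h114 := checkSteps_sound ladd (List.replicate 6 0) leq F Ev 6 262144 tw γ hfree htw q0 words 216 hw steps113 169395 28800 321 170895 28800 321 h113 chk113
  have h115 := checkSteps_sound ladd (List.replicate 6 0) leq F Ev 6 262144 tw γ hfree htw q0 words 216 hw steps114 170895 28800 321 172395 28800 321 h114 chk114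
  have h116 := checkSteps_sound ladd (List.replicate 6 0) leq F Ev 6 262144 tw γ hfree htw q0 words 216 hw steps115 172395 28800 321 172800 28800 328 h115 chk115
  exact h116

end Cfsg.Agent.Lib.H29.O8M.Cert
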